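import Groth.Agent.Lib.ASTorsor98.Ring
import Groth.Prelude.Def_Pi1
import Mathlib.AlgebraicGeometry.Sites.SmallAffineZariski
import Mathlib.AlgebraicGeometry.Morphisms.Finite
import Mathlib.AlgebraicGeometry.Morphisms.Etale

/-!
# Artin-Schreier covers of a scheme from additive gluing data
-/

set_option autoImplicit false

universe u

open CategoryTheory CategoryTheory.Limits AlgebraicGeometry Opposite TopologicalSpace Polynomial

noncomputable section

namespace Groth.Agent.Lib.ASTorsor98.Cover

open Scheme Scheme.AffineZariskiSite Groth.Agent.Lib.ASTorsor98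

variable {X : Scheme.{u}}

/-- Restriction of functions between affine opens. -/
abbrev res {U V : X.AffineZariskiSite} (h : V ≤ U) : Γ(X, U.1) →+* Γ(X, V.1) :=
  (X.presheaf.map (homOfLE (toOpens_mono h)).op).hom

theorem res_res {U V W : X.AffineZariskiSite} (hVU : V ≤ U) (hWV : W ≤ V) (r : Γ(X, U.1)) :
    res hWV (res hVU r) = res (hWV.trans hVU) r := by
  rw [res, res, res, ← CommRingCat.comp_apply, ← Functor.map_comp]
  rfl

/-- Additive gluing data for an Artin-Schreier cover. -/
structure Datum (X : Scheme.{u}) (p : ℕ) : Type u where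
  hp : ∀ U : X.AffineZariskiSite, (p : Γ(X, U.1)) = 0
  b : ∀ U : X.AffineZariskiSite, Γ(X, U.1)
  a : ∀ {U V : X.AffineZariskiSite}, V ≤ U → Γ(X, V.1)
  eqn : ∀ {U V : X.AffineZariskiSite} (h : V ≤ U), a h ^ p - a h = b V - res h (b U)
  cocycle : ∀ {U V W : X.AffineZariskiSite} (h : V ≤ U) (h' : W ≤ V),
    a (h'.trans h) = res h' (a h) + a h'

variable {p : ℕ} [hp : Fact p.Prime] (D : Datum X p)

theorem a_refl (U : X.AffineZariskiSite) : D.a (le_refl U) = 0 := by
  have h := D.cocycle (le_refl U) (le_refl U)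
  have e : res (le_refl U) (D.a (le_refl U)) = D.a (le_refl U) := by
    change (X.presheaf.map (𝟙 (op U.1))).hom _ = _
    rw [X.presheaf.map_id]; rfl
  rw [e] at h
  exact left_eq_add.1 h

/-- The algebra over an affine open. -/
abbrev Alg (U : X.AffineZariskiSite) : Type u := AdjoinRoot (Ring.poly p (D.b U))

/-- The transition maps. -/
abbrev tr {U V : X.AffineZariskiSite} (h : V ≤ U) : Alg D U →+* Alg D V :=
  Ring.trans p (res h) (D.hp V) (D.b U) (D.b V) (D.a h) (D.eqn h)

theorem tr_ext {U : X.AffineZariskiSite} {T : Type u} [CommRing T] {f g : Alg D U →+* T}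
    (h₁ : ∀ r, f (AdjoinRoot.of _ r) = g (AdjoinRoot.of _ r))
    (h₂ : f (AdjoinRoot.root _) = g (AdjoinRoot.root _)) : f = g := by
  refine Ideal.Quotient.ringHom_ext (Polynomial.ringHom_ext (fun r => ?_) ?_)
  · exact h₁ r
  · exact h₂

theorem tr_id (U : X.AffineZariskiSite) : tr D (le_refl U) = RingHom.id _ := by
  refine tr_ext D (fun r => ?_) ?_
  · rw [Ring.trans_of]
    change AdjoinRoot.of _ ((X.presheaf.map (𝟙 (op U.1))).hom r) = _
    rw [X.presheaf.map_id]; rfl
  · rw [Ring.trans_root, a_refl, map_zero, sub_zero]; rfl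

theorem tr_comp {U V W : X.AffineZariskiSite} (h : V ≤ U) (h' : W ≤ V) :
    (tr D h').comp (tr D h) = tr D (h'.trans h) := by
  refine tr_ext D (fun r => ?_) ?_
  · simp only [RingHom.comp_apply, Ring.trans_of, res_res]
  · simp only [RingHom.comp_apply, Ring.trans_root, map_sub, Ring.trans_of, D.cocycle h h', map_add]
    ring

/-- The presheaf of algebras. -/
def F : X.AffineZariskiSiteᵒᵖ ⥤ CommRingCat.{u} where
  obj U := CommRingCat.of (Alg D U.unop)
  map {U V} i := CommRingCat.ofHom (tr D i.unop.le)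
  map_id U := by
    ext : 1
    exact tr_id D U.unop
  map_comp {U V W} i j := by
    ext : 1
    exact (tr_comp D i.unop.le j.unop.le).symm

/-- The structure map. -/
def α : (toOpensFunctor X).op ⋙ X.presheaf ⟶ F D where
  app U := CommRingCat.ofHom (AdjoinRoot.of (Ring.poly p (D.b U.unop)))
  naturality {U V} i := by
    ext r
    exact (Ring.trans_of p (res i.unop.le) (D.hp V.unop) (D.b U.unop) (D.b V.unop) _ (D.eqn i.unop.le) r).symm

theorem coequifibered : (α D).Coequifibered :=
  coequifibered_iff_forall_isLocalizationAway.2 fun U f => by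
    letI := (res (U.basicOpen_le f)).toAlgebra
    haveI : IsLocalization.Away f Γ(X, (U.basicOpen f).1) := U.2.isLocalization_basicOpen f
    exact Ring.isLocalization p f (D.hp _) (D.b U) (D.b (U.basicOpen f)) (D.a _) (D.eqn _)

/-- The gluing data. -/
def data := relativeGluingData (coequifibered D)

instance : ((data D).functor ⋙ Scheme.forget).IsLocallyDirected :=
  Cover.RelativeGluingData.instIsLocallyDirectedI₀CompFunctorForgetOfIsThin ..

/-- The cover. -/
def Y : Scheme.{u} := (data D).glued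

/-- Its projection. -/
def proj : Y D ⟶ X := (data D).toBase

/-- The chart over an affine open. -/
def chart (U : X.AffineZariskiSite) : Spec (CommRingCat.of (Alg D U)) ⟶ Y D := (data D).cover.f U

instance (U : X.AffineZariskiSite) : IsOpenImmersion (chart D U) := (data D).cover.map_prop U

theorem chart_proj (U : X.AffineZariskiSite) :
    chart D U ≫ proj D =
      Spec.map (CommRingCat.ofHom (AdjoinRoot.of (Ring.poly p (D.b U)))) ≫ U.2.fromSpec :=
  colimit.ι_desc _ _

theorem chart_w {U V : X.AffineZariskiSite} (h : V ≤ U) :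
    Spec.map (CommRingCat.ofHom (tr D h)) ≫ chart D U = chart D V :=
  colimit.w (data D).functor (homOfLE h)

theorem preimage_proj (U : X.AffineZariskiSite) : proj D ⁻¹ᵁ U.1 = (chart D U).opensRange := by
  simpa using! (data D).toBase_preimage_eq_opensRange_ι U

theorem finite_etale : FEt.prop (proj D) := by
  refine (IsZariskiLocalAtTarget.iff_of_openCover (P := FEt.prop)
    (X.openCoverOfIsOpenCover _ (iSup_affineOpens_eq_top X))).2 fun U => ?_
  change FEt.prop (pullback.snd (proj D) U.1.ι)
  let U' : X.AffineZariskiSite := ⟨U.1, U.2⟩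
  let e := IsOpenImmersion.isoOfRangeEq (pullback.fst (proj D) U.1.ι) (chart D U') <| by
    rw [Pullback.range_fst, Opens.range_ι, ← Scheme.Hom.coe_preimage, preimage_proj D U']
    rfl
  have key : pullback.snd (proj D) U.1.ι = e.hom ≫
      Spec.map (CommRingCat.ofHom (AdjoinRoot.of (Ring.poly p (D.b U')))) ≫ U.2.isoSpec.inv := by
    rw [← cancel_mono U.1.ι, Category.assoc, Category.assoc, IsAffineOpen.isoSpec_inv_ι,
      ← chart_proj D U', IsOpenImmersion.isoOfRangeEq_hom_fac_assoc, pullback.condition]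
  rw [key, MorphismProperty.cancel_left_of_respectsIso FEt.prop,
    MorphismProperty.cancel_right_of_respectsIso FEt.prop]
  refine ⟨(IsFinite.SpecMap_iff _).2 ?_, (HasRingHomProperty.Spec_iff (P := @Etale)).2 ?_⟩
  · exact RingHom.finite_algebraMap.2 (Ring.finite p (D.b U'))
  · exact RingHom.etale_algebraMap.2 (Ring.etale p (D.hp U') (D.b U'))

/-- The cover as an object of the category of finite etale covers. -/
def cat : FEt.Cat X := MorphismProperty.Over.mk ⊤ (proj D) (finite_etale D)

/-- If the cover is split then the data are a coboundary. -/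
theorem exists_trivialisation [Nonempty X] (h : Pi1.IsSplit (cat D)) :
    ∃ s : ∀ U : X.AffineZariskiSite, Γ(X, U.1),
      (∀ U, s U ^ p - s U = D.b U) ∧
      ∀ (U V : X.AffineZariskiSite) (hVU : V ≤ U), s V = res hVU (s U) + D.a hVU := by
  obtain ⟨ι, _, e, he⟩ := h
  obtain ⟨y⟩ : Nonempty (Y D) := by
    obtain ⟨x⟩ := ‹Nonempty X›
    obtain ⟨_, ⟨U₀, hU₀, rfl⟩, hxU, -⟩ :=
      X.isBasis_affineOpens.exists_subset_of_mem_open (Set.mem_univ x) isOpen_univ
    let U : X.AffineZariskiSite := ⟨U₀, hU₀⟩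
    have : Nontrivial Γ(X, U.1) :=
      @Scheme.component_nontrivial X U.1 ⟨⟨x, hxU⟩⟩
    have := Ring.nontrivial p (D.b U)
    obtain ⟨z⟩ : Nonempty (PrimeSpectrum (Alg D U)) := inferInstance
    exact ⟨chart D U z⟩
  obtain ⟨⟨i, -⟩, -⟩ := (sigmaMk fun _ : ι => X).surjective (e.hom y)
  let σ : X ⟶ Y D := Sigma.ι (fun _ : ι => X) i ≫ e.inv
  have hσ : σ ≫ proj D = 𝟙 X := by
    rw [Category.assoc]; exact he i
  have hrange : ∀ U : X.AffineZariskiSite,
      Set.range (U.2.fromSpec ≫ σ) ⊆ Set.range (chart D U) := fun U => by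
    rintro _ ⟨w, rfl⟩
    have hw : proj D ((U.2.fromSpec ≫ σ) w) ∈ U.1 := by
      rw [← Scheme.Hom.comp_apply, Category.assoc, hσ, Category.comp_id]
      have : U.2.fromSpec w ∈ Set.range U.2.fromSpec := ⟨w, rfl⟩
      rwa [U.2.range_fromSpec] at this
    have hmem : (U.2.fromSpec ≫ σ) w ∈ proj D ⁻¹ᵁ U.1 := hw
    rw [preimage_proj] at hmem
    exact hmem
  let l : ∀ U : X.AffineZariskiSite, Spec Γ(X, U.1) ⟶ Spec (CommRingCat.of (Alg D U)) := fun U =>
    IsOpenImmersion.lift (chart D U) (U.2.fromSpec ≫ σ) (hrange U)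
  have hl : ∀ U, l U ≫ chart D U = U.2.fromSpec ≫ σ := fun U => IsOpenImmersion.lift_fac _ _ _
  let r : ∀ U : X.AffineZariskiSite, CommRingCat.of (Alg D U) ⟶ Γ(X, U.1) := fun U =>
    Spec.preimage (l U)
  have hr1 : ∀ (U : X.AffineZariskiSite) (c : Γ(X, U.1)),
      (r U).hom (AdjoinRoot.of (Ring.poly p (D.b U)) c) = c := fun U c => by
    have : CommRingCat.ofHom (AdjoinRoot.of (Ring.poly p (D.b U))) ≫ r U = 𝟙 _ := by
      apply Spec.map_injective
      rw [Spec.map_comp, Spec.map_preimage, Spec.map_id, ← cancel_mono U.2.fromSpec, Category.assoc,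
        ← chart_proj, reassoc_of% (hl U), hσ, Category.comp_id]
      exact (Category.id_comp _).symm
    exact congr($(this).hom c)
  have hr2 : ∀ (U V : X.AffineZariskiSite) (hVU : V ≤ U) (z : Alg D U),
      (r V).hom (tr D hVU z) = res hVU ((r U).hom z) := fun U V hVU z => by
    have : CommRingCat.ofHom (tr D hVU) ≫ r V =
        r U ≫ X.presheaf.map (homOfLE (toOpens_mono hVU)).op := by
      apply Spec.map_injective
      rw [Spec.map_comp, Spec.map_comp, Spec.map_preimage, Spec.map_preimage,
        ← cancel_mono (chart D U), Category.assoc, Category.assoc, chart_w, hl, hl]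
      exact ((reassoc_of% (U.2.map_fromSpec V.2 (homOfLE (toOpens_mono hVU)).op)) σ).symm
    exact congr($(this).hom z)
  refine ⟨fun U => (r U).hom (AdjoinRoot.root _), fun U => ?_, fun U V hVU => ?_⟩
  · rw [← map_pow, ← map_sub, Ring.root_eq, hr1]
  · rw [← hr2, Ring.trans_root, map_sub, hr1, sub_add_cancel]

end Groth.Agent.Lib.ASTorsor98.Cover
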