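import Groth.Agent.Lib.ASTorsor98.Cover
import Groth.Agent.Lib.ZarCoh.Affine
import Groth.Agent.Lib.Curves.LES
import Groth.Agent.Lib.CurveBundle.Coherent
import Groth.Agent.Lib.EtSite.LangSemilinear
import Groth.Prelude.Def_W4c5isocrystsimpconnFrobH

/-!
# Frobenius fixed classes in `H^1(X, O_X)` of a simply connected scheme vanish
-/

set_option autoImplicit false

universe u

open CategoryTheory CategoryTheory.Limits CategoryTheory.Abelian AlgebraicGeometry Opposite
  TopologicalSpace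

noncomputable section

namespace Groth.Agent.Lib.ASTorsor98.Fixed

open Groth.Agent.Lib.ZarCoh Groth.Agent.Lib.ZarCoh.Basic Scheme.AffineZariskiSite

variable {X : Scheme.{u}}

section Sections

variable {S : ShortComplex (CohTop.Ab (X.toTopCat))}

theorem f_injective (hS : S.ShortExact) (U : Opens X) :
    Function.Injective (S.f.hom.app (op U)) := fun s t h => by
  haveI := hS.mono_f
  obtain ⟨g, rfl⟩ := (homEquiv U S.X₁).surjective s
  obtain ⟨g', rfl⟩ := (homEquiv U S.X₁).surjective t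
  rw [← homEquiv_comp, ← homEquiv_comp] at h
  rw [(cancel_mono S.f).1 ((homEquiv U S.X₂).injective h)]

theorem exists_f_eq (hS : S.ShortExact) (U : Opens X) (v : S.X₂.obj.obj (op U))
    (hv : S.g.hom.app (op U) v = 0) : ∃ s, S.f.hom.app (op U) s = v := by
  haveI := hS.mono_f
  obtain ⟨g, rfl⟩ := (homEquiv U S.X₂).surjective v
  rw [← homEquiv_comp] at hv
  have hg : g ≫ S.g = 0 := (homEquiv U S.X₃).injective (by
    rw [hv]
    have := homEquiv_add (0 : Zs.obj U ⟶ S.X₃) 0
    rw [add_zero] at this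
    exact (left_eq_add.1 this).symm)
  exact ⟨homEquiv U S.X₁ (hS.exact.lift g hg), by rw [← homEquiv_comp, hS.exact.lift_f]⟩

theorem exists_g_eq (hS : S.ShortExact) (U : Opens X) [Subsingleton (CohTop.HU S.X₁ 1 U)]
    (q : S.X₃.obj.obj (op U)) : ∃ v, S.g.hom.app (op U) v = q := by
  obtain ⟨y, rfl⟩ := (homEquiv U S.X₃).surjective q
  have hy : (Ext.mk₀ y).comp hS.extClass (zero_add 1) = (0 : Ext.{u} (Zs.obj U) S.X₁ 1) :=
    Subsingleton.elim (α := CohTop.HU S.X₁ 1 U) _ _
  obtain ⟨z, hz⟩ := Ext.covariant_sequence_exact₃ _ hS (Ext.mk₀ y) (zero_add 1) hy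
  obtain ⟨g, rfl⟩ := (Ext.mk₀_bijective _ _).2 z
  rw [Ext.mk₀_comp_mk₀] at hz
  exact ⟨homEquiv U S.X₂ g, by rw [← homEquiv_comp, (Ext.mk₀_bijective _ _).1 hz]⟩

end Sections

theorem app_natural {F G : CohTop.Ab X.toTopCat} (φ : F ⟶ G) {U V : Opens X} (h : V ≤ U)
    (s : F.obj.obj (op U)) :
    G.obj.map (homOfLE h).op (φ.hom.app (op U) s) = φ.hom.app (op V) (F.obj.map (homOfLE h).op s) :=
  (NatTrans.naturality_apply φ.hom (homOfLE h).op s).symm

theorem map_map {F : CohTop.Ab X.toTopCat} {U V W : Opens X} (h : V ≤ U) (h' : W ≤ V)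
    (s : F.obj.obj (op U)) :
    F.obj.map (homOfLE h').op (F.obj.map (homOfLE h).op s) =
      F.obj.map (homOfLE (h'.trans h)).op s := by
  rw [← ConcreteCategory.comp_apply, ← Functor.map_comp]
  rfl

variable (p : ℕ) [Fact p.Prime] [FrobSch.IsCharP X p]

/-- A Frobenius-fixed class of `H^1(X, O_X)` is zero when all finite etale covers are split. -/
theorem eq_zero_of_fixed [Nonempty X] (hπ : ∀ Y : FEt.Cat X, Pi1.IsSplit Y)
    (x : Coh.HH X (Coh.structureModule X) 1)
    (hx : W4c5isocrystsimpconn.frobH X p 1 x = x) : x = 0 := by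
  haveI hqc := CurveBundle.Coherent.isQCoh_unit X
  let φ := W4c5isocrystsimpconn.frobAb X p
  have hS := injSES_shortExact (Coh.toAb (Coh.structureModule X))
  let S := injSES (Coh.toAb (Coh.structureModule X))
  haveI : Mono S.f := hS.mono_f
  -- the class comes from a global section of the quotient
  obtain ⟨y', hy'⟩ := Ext.covariant_sequence_exact₁ _ hS x (Ext.eq_zero_of_injective _) (zero_add 1)
  obtain ⟨y, rfl⟩ := (Ext.mk₀_bijective _ _).2 y'
  -- extend the Frobenius
  let ψ : S.X₂ ⟶ S.X₂ := Injective.factorThru (φ ≫ S.f) S.f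
  have hψ : S.f ≫ ψ = φ ≫ S.f := Injective.comp_factorThru _ _
  let χ : S.X₃ ⟶ S.X₃ := cokernel.map _ _ φ ψ hψ
  have hχ : S.g ≫ χ = ψ ≫ S.g := cokernel.π_desc _ _ _
  let Φ : S ⟶ S := ShortComplex.homMk φ ψ χ hψ.symm hχ.symm
  have h0 : (Ext.mk₀ (y ≫ (χ - 𝟙 _))).comp hS.extClass (zero_add 1) = 0 := by
    have h1 := Curves.LES.postcomp_extClass_natural hS Φ (zero_add 1) (Ext.mk₀ y)
    have h2 : Sheaf.H.map φ 1 x = x := hx
    rw [Sheaf.H.map_apply, ← hy'] at h2
    have h3 : (Ext.mk₀ (y ≫ (χ - 𝟙 _))).comp hS.extClass (zero_add 1) +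
        (Ext.mk₀ y).comp hS.extClass (zero_add 1) =
          ((Ext.mk₀ y).comp (Ext.mk₀ χ) (add_zero 0)).comp hS.extClass (zero_add 1) := by
      rw [← Ext.add_comp, ← Ext.mk₀_add, Preadditive.comp_sub, Category.comp_id, sub_add_cancel,
        Ext.mk₀_comp_mk₀]
    exact add_eq_right.1 (h3.trans (h1.trans h2))
  obtain ⟨z, hz⟩ := Ext.covariant_sequence_exact₃ _ hS _ (zero_add 1) h0
  obtain ⟨g₀, rfl⟩ := (Ext.mk₀_bijective _ _).2 z
  rw [Ext.mk₀_comp_mk₀] at hz
  have hz' : g₀ ≫ S.g = y ≫ (χ - 𝟙 _) := (Ext.mk₀_bijective _ _).1 hz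
  let q : S.X₃.obj.obj (op ⊤) := constEquiv _ y
  let G : S.X₂.obj.obj (op ⊤) := constEquiv _ g₀
  have hG : S.g.hom.app (op ⊤) G = χ.hom.app (op ⊤) q - q := by
    rw [← constEquiv_comp, hz', constEquiv_comp]
    rfl
  -- local lifts
  have hlift : ∀ U : X.AffineZariskiSite, ∃ v : S.X₂.obj.obj (op U.1),
      S.g.hom.app (op U.1) v = S.X₃.obj.map (homOfLE le_top).op q := fun U => by
    haveI : Subsingleton (CohTop.HU S.X₁ 1 U.1) :=
      Affine.HU_subsingleton (Coh.structureModule X) U.2 0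
    exact @exists_g_eq X _ hS U.1 this _
  choose g hg using hlift
  have hker : ∀ U : X.AffineZariskiSite, ∃ b : S.X₁.obj.obj (op U.1),
      S.f.hom.app (op U.1) b =
        ψ.hom.app (op U.1) (g U) - g U - S.X₂.obj.map (homOfLE le_top).op G := fun U => by
    refine exists_f_eq hS _ _ ?_
    rw [map_sub, map_sub, ← app_natural, hG, map_sub, app_natural, ← hg U]
    have := congr($(hχ).hom.app (op U.1) (g U))
    change χ.hom.app (op U.1) (S.g.hom.app (op U.1) (g U)) =
      S.g.hom.app (op U.1) (ψ.hom.app (op U.1) (g U)) at this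
    rw [this, sub_self]
  choose b hb using hker
  have htr : ∀ (U V : X.AffineZariskiSite) (h : V ≤ U), ∃ a : S.X₁.obj.obj (op V.1),
      S.f.hom.app (op V.1) a = g V - S.X₂.obj.map (homOfLE (toOpens_mono h)).op (g U) :=
    fun U V h => by
    refine exists_f_eq hS _ _ ?_
    rw [map_sub, ← app_natural, hg, hg, map_map, sub_self]
  choose a ha using htr
  have hfψ : ∀ (U : Opens X) (t : Γ(X, U)),
      ψ.hom.app (op U) (S.f.hom.app (op U) t) = S.f.hom.app (op U) (t ^ p : Γ(X, U)) := fun U t => by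
    have := congr($(hψ).hom.app (op U) t)
    exact this
  let D : Cover.Datum X p :=
    { hp := fun U => FrobSch.natCast_eq_zero_app X p U.1
      b := b
      a := fun {U V} h => a U V h
      eqn := fun {U V} h => by
        refine f_injective hS _ ?_
        change S.f.hom.app (op V.1) _ = S.f.hom.app (op V.1) _
        refine (map_sub (S.f.hom.app (op V.1)).hom _ _).trans ?_
        rw [← hfψ]
        refine Eq.trans ?_ (map_sub (S.f.hom.app (op V.1)).hom _ _).symm
        change _ = S.f.hom.app (op V.1) (b V) -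
          S.f.hom.app (op V.1) (S.X₁.obj.map (homOfLE (toOpens_mono h)).op (b U))
        rw [← app_natural, hb, hb, ha, map_sub, map_sub, map_sub, map_map, app_natural]
        abel
      cocycle := fun {U V W} h h' => by
        refine f_injective hS _ ?_
        refine Eq.trans ?_ (map_add (S.f.hom.app (op W.1)).hom _ _).symm
        change _ = S.f.hom.app (op W.1) (S.X₁.obj.map (homOfLE (toOpens_mono h')).op (a U V h)) + _
        rw [← app_natural, ha, ha, map_sub, map_map]
        change _ = _ + S.f.hom.app (op W.1) (a V W h')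
        rw [ha]
        abel }
  obtain ⟨s, hs, hsa⟩ := Cover.exists_trivialisation D (hπ (Cover.cat D))
  -- correct the lifts
  let H : ∀ U : X.AffineZariskiSite, S.X₂.obj.obj (op U.1) := fun U =>
    g U - S.f.hom.app (op U.1) (s U)
  have hH : ∀ (U V : X.AffineZariskiSite) (h : V ≤ U),
      S.X₂.obj.map (homOfLE (toOpens_mono h)).op (H U) = H V := fun U V h => by
    have e : S.f.hom.app (op V.1) (s V) =
        S.f.hom.app (op V.1) (S.X₁.obj.map (homOfLE (toOpens_mono h)).op (s U)) +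
          S.f.hom.app (op V.1) (a U V h) := by
      rw [← map_add]
      exact congrArg _ (hsa U V h)
    simp only [H, map_sub]
    rw [app_natural, e, ha]
    abel
  let I : TopCat.Sheaf AddCommGrpCat.{u} X.toTopCat := S.X₂
  let Q : TopCat.Sheaf AddCommGrpCat.{u} X.toTopCat := S.X₃
  have hcov : (⊤ : Opens X) ≤ ⨆ U : X.AffineZariskiSite, U.1 := fun x _ => by
    obtain ⟨_, ⟨U₀, hU₀, rfl⟩, hxU, -⟩ :=
      X.isBasis_affineOpens.exists_subset_of_mem_open (Set.mem_univ x) isOpen_univ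
    exact Opens.mem_iSup.2 ⟨⟨U₀, hU₀⟩, hxU⟩
  obtain ⟨h, hh, -⟩ := I.existsUnique_gluing' (fun U : X.AffineZariskiSite => U.1) ⊤
    (fun U => homOfLE le_top) hcov H (fun U U' => by
      let J := {W : X.AffineZariskiSite // W ≤ U ∧ W ≤ U'}
      refine I.eq_of_locally_eq' (fun W : J => W.1.1) _
        (fun W => homOfLE (le_inf (toOpens_mono W.2.1) (toOpens_mono W.2.2))) ?_ _ _ fun W => ?_
      · intro x hx
        obtain ⟨f, f', hff, hxf⟩ := exists_basicOpen_le_affine_inter U.2 U'.2 x hx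
        refine Opens.mem_iSup.2 ⟨⟨U.basicOpen f, U.basicOpen_le f, ?_⟩, hxf⟩
        exact ⟨f', hff.symm⟩
      · change S.X₂.obj.map _ (S.X₂.obj.map _ (H U)) = S.X₂.obj.map _ (S.X₂.obj.map _ (H U'))
        exact (map_map _ _ _).trans ((hH U W.1 W.2.1).trans
          ((hH U' W.1 W.2.2).symm.trans (map_map _ _ _).symm)))
  have hπh : S.g.hom.app (op ⊤) h = q := by
    refine Q.eq_of_locally_eq' (fun U : X.AffineZariskiSite => U.1) _ (fun U => homOfLE le_top)
      hcov _ _ fun U => ?_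
    change S.X₃.obj.map _ (S.g.hom.app (op ⊤) h) = S.X₃.obj.map _ q
    rw [app_natural]
    have e : S.X₂.obj.map (homOfLE le_top).op h = H U := hh U
    rw [e, map_sub, hg]
    have := congr($(S.zero).hom.app (op U.1) (s U))
    change S.g.hom.app (op U.1) (S.f.hom.app (op U.1) (s U)) = 0 at this
    rw [this, sub_zero]
  obtain ⟨η, rfl⟩ := (constEquiv S.X₂).surjective h
  rw [← constEquiv_comp] at hπh
  rw [← hy', ← (constEquiv S.X₃).injective hπh]
  exact mk₀_comp_g_comp_extClass hS η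

/-- The Fitting argument: a semilinear map without fixed vectors is nilpotent. -/
theorem exists_iterate_eq_zero {k : Type u} [Field k] [IsAlgClosed k] [CharP k p] {V : Type u}
    [AddCommGroup V] [Module k V] [FiniteDimensional k V] (F : V →+ V)
    (hF : ∀ (c : k) (v : V), F (c • v) = c ^ p • F v) (hfix : ∀ v, F v = v → v = 0) :
    ∃ n : ℕ, 0 < n ∧ ∀ v, F^[n] v = 0 := by
  have hp : 0 < p := (Fact.out : p.Prime).pos
  have hit : ∀ n, ∀ a b : V, F^[n] (a + b) = F^[n] a + F^[n] b := fun n => iterate_map_add F n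
  let W : ℕ → Submodule k V := fun n =>
    { carrier := Set.range F^[n]
      add_mem' := by rintro _ _ ⟨a, rfl⟩ ⟨b, rfl⟩; exact ⟨a + b, hit n a b⟩
      zero_mem' := ⟨0, iterate_map_zero F n⟩
      smul_mem' := by
        rintro c _ ⟨a, rfl⟩
        obtain ⟨d, rfl⟩ := IsAlgClosed.exists_pow_nat_eq c (pow_pos hp n)
        exact ⟨d • a, EtSite.LangSemilinear.iterate_smul p F hF n d a⟩ }
  have hanti : Antitone W := antitone_nat_of_succ_le fun n => by
    rintro _ ⟨a, rfl⟩
    exact ⟨F a, (Function.iterate_succ_apply F n a).symm⟩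
  obtain ⟨n, hn⟩ := IsArtinian.monotone_stabilizes (R := k) (M := V) ⟨W, hanti.dual_right⟩
  refine ⟨n + 1, n.succ_pos, ?_⟩
  have hmem : ∀ v ∈ W n, F v ∈ W n := by
    rintro _ ⟨a, rfl⟩
    exact ⟨F a, by rw [← Function.iterate_succ_apply, Function.iterate_succ_apply']⟩
  let G : W n →+ W n :=
    { toFun := fun v => ⟨F (v : V), hmem v v.2⟩
      map_zero' := Subtype.ext (map_zero F)
      map_add' := fun a b => Subtype.ext (map_add F a.1 b.1) }
  have hG : ∀ (c : k) (v : W n), G (c • v) = c ^ p • G v := fun c v => Subtype.ext (hF c v.1)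
  have hGs : Function.Surjective G := by
    rintro ⟨v, hv⟩
    have : v ∈ W (n + 1) := (congrArg OrderDual.ofDual (hn (n + 1) n.le_succ)).le hv
    obtain ⟨a, rfl⟩ := this
    exact ⟨⟨F^[n] a, ⟨a, rfl⟩⟩, Subtype.ext (Function.iterate_succ_apply' F n a).symm⟩
  intro v
  by_contra hv
  have h' : F^[n + 1] v ∈ W n := hanti n.le_succ ⟨v, rfl⟩
  obtain ⟨w, hw, hw'⟩ := EtSite.LangSemilinear.exists_fixed_ne_zero p G hG
    (EtSite.LangSemilinear.injective_of_surjective p G hG hGs) ⟨_, h'⟩
    (fun e => hv (congrArg Subtype.val e))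
  exact hw (Subtype.ext (hfix _ (congrArg Subtype.val hw')))

end Groth.Agent.Lib.ASTorsor98.Fixed
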