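import Groth.Prelude.Def_Frob
import Mathlib.RingTheory.Etale.StandardEtale
import Mathlib.RingTheory.AdjoinRoot
import Mathlib.RingTheory.Localization.Algebra
import Mathlib.RingTheory.Localization.Away.Basic
import Mathlib.RingTheory.RingHom.Etale
import Mathlib.RingTheory.RingHom.Finite

/-!
# Artin-Schreier algebras `R[X]/(X^p - X - b)` and their translations
-/

set_option autoImplicit false

universe u

open Polynomial

noncomputable section

namespace Groth.Agent.Lib.ASTorsor98.Ring

variable (p : ℕ) [hp : Fact p.Prime] {R S : Type u} [CommRing R] [CommRing S]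

/-- The Artin-Schreier polynomial. -/
def poly (b : R) : R[X] := X ^ p - (X + C b)

theorem degree_lt (b : R) : (X + C b : R[X]).degree < (p : WithBot ℕ) :=
  lt_of_le_of_lt (degree_add_le_of_degree_le degree_X_le (degree_C_le.trans zero_le_one))
    (by exact_mod_cast hp.out.one_lt)

theorem monic (b : R) : (poly p b).Monic := monic_X_pow_sub (degree_lt p b)

theorem root_eq (b : R) :
    AdjoinRoot.root (poly p b) ^ p - AdjoinRoot.root (poly p b) = AdjoinRoot.of (poly p b) b := by
  have h : AdjoinRoot.mk (poly p b) (X ^ p - (X + C b)) = 0 := AdjoinRoot.mk_self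
  rw [map_sub, map_add, map_pow, AdjoinRoot.mk_X, AdjoinRoot.mk_C, sub_eq_zero] at h
  rw [h, add_sub_cancel_left]

/-- The map out of an Artin-Schreier algebra given by a root. -/
def liftRoot (b : R) (g : R →+* S) (s : S) (hs : s ^ p - s = g b) : AdjoinRoot (poly p b) →+* S :=
  AdjoinRoot.lift g s (by
    rw [poly, eval₂_sub, eval₂_add, eval₂_X_pow, eval₂_X, eval₂_C, ← hs]
    ring)

theorem pow_sub (hR : (p : R) = 0) (x y : R) : (x - y) ^ p = x ^ p - y ^ p :=
  map_sub (FrobSch.powHom p R hR) x y

/-- The translation `root ↦ root - a`. -/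
def trans (g : R →+* S) (hS : (p : S) = 0) (b : R) (b' a : S) (h : a ^ p - a = b' - g b) :
    AdjoinRoot (poly p b) →+* AdjoinRoot (poly p b') :=
  liftRoot p b ((AdjoinRoot.of (poly p b')).comp g)
    (AdjoinRoot.root (poly p b') - AdjoinRoot.of (poly p b') a) (by
      rw [pow_sub p (by rw [← map_natCast (AdjoinRoot.of (poly p b')), hS, map_zero]),
        sub_sub_sub_comm, root_eq, ← map_pow, ← map_sub, ← map_sub, h, sub_sub_cancel]
      rfl)

@[simp] theorem trans_of (g : R →+* S) (hS : (p : S) = 0) (b : R) (b' a : S)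
    (h : a ^ p - a = b' - g b) (r : R) :
    trans p g hS b b' a h (AdjoinRoot.of (poly p b) r) = AdjoinRoot.of (poly p b') (g r) :=
  by simp [trans, liftRoot]

@[simp] theorem trans_root (g : R →+* S) (hS : (p : S) = 0) (b : R) (b' a : S)
    (h : a ^ p - a = b' - g b) :
    trans p g hS b b' a h (AdjoinRoot.root (poly p b)) =
      AdjoinRoot.root (poly p b') - AdjoinRoot.of (poly p b') a :=
  by simp [trans, liftRoot]

/-- The substitution on polynomials. -/
def subst (g : R →+* S) (a : S) : R[X] →+* S[X] := eval₂RingHom (C.comp g) (X - C a)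

theorem subst_eq (g : R →+* S) (a : S) (P : R[X]) :
    subst g a P = (P.map g).comp (X - C a) := by
  simp [subst, Polynomial.comp, eval₂_map]

theorem trans_mk (g : R →+* S) (hS : (p : S) = 0) (b : R) (b' a : S) (h : a ^ p - a = b' - g b)
    (P : R[X]) :
    trans p g hS b b' a h (AdjoinRoot.mk (poly p b) P) =
      AdjoinRoot.mk (poly p b') (subst g a P) := by
  have : (trans p g hS b b' a h).comp (AdjoinRoot.mk (poly p b)) =
      (AdjoinRoot.mk (poly p b')).comp (subst g a) :=
    Polynomial.ringHom_ext (fun r => by simp [subst]) (by simp [subst])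
  exact RingHom.congr_fun this P

theorem subst_poly (g : R →+* S) (hS : (p : S) = 0) (b : R) (b' a : S)
    (h : a ^ p - a = b' - g b) : subst g a (poly p b) = poly p b' := by
  have hX : (X - C a : S[X]) ^ p = X ^ p - C a ^ p :=
    pow_sub p (by rw [← map_natCast (C : S →+* S[X]), hS, map_zero]) X (C a)
  simp only [poly, subst, map_sub, map_add, map_pow, coe_eval₂RingHom, eval₂_X, eval₂_C,
    eval₂_sub, eval₂_add, eval₂_X_pow, RingHom.coe_comp, Function.comp_apply, hX]
  have e : (C (g b) : S[X]) = C b' - (C a ^ p - C a) := by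
    rw [← map_pow, ← map_sub, ← map_sub, h, sub_sub_cancel]
  rw [e]
  ring

theorem comp_shift (P : S[X]) (a : S) : (P.comp (X + C a)).comp (X - C a) = P := by
  simp [Polynomial.comp_assoc]

attribute [local instance] Polynomial.algebra in
/-- Artin-Schreier algebras commute with localisation at one element. -/
theorem isLocalization (f : R) [Algebra R S] [IsLocalization.Away f S] (hS : (p : S) = 0)
    (b : R) (b' a : S) (h : a ^ p - a = b' - algebraMap R S b) :
    letI := (trans p (algebraMap R S) hS b b' a h).toAlgebra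
    IsLocalization.Away (AdjoinRoot.of (poly p b) f) (AdjoinRoot (poly p b')) := by
  letI := (trans p (algebraMap R S) hS b b' a h).toAlgebra
  have := Polynomial.isLocalization (Submonoid.powers f) S
  have halg : ∀ P : R[X], algebraMap R[X] S[X] P = P.map (algebraMap R S) := fun P => rfl
  let M : Submonoid R[X] := (Submonoid.powers f).map C
  refine ⟨?_, ?_, ?_⟩
  · rintro ⟨y, n, rfl⟩
    change IsUnit (trans p (algebraMap R S) hS b b' a h (AdjoinRoot.of (poly p b) f ^ n))
    rw [map_pow, trans_of]
    exact ((IsLocalization.Away.algebraMap_isUnit (S := S) f).map (AdjoinRoot.of _)).pow n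
  · intro y
    obtain ⟨Q, rfl⟩ := AdjoinRoot.mk_surjective y
    obtain ⟨⟨P, ⟨_, m, ⟨n, rfl⟩, rfl⟩⟩, e⟩ := IsLocalization.surj M (Q.comp (X + C a))
    refine ⟨(AdjoinRoot.mk (poly p b) P, ⟨_, n, rfl⟩), ?_⟩
    change _ * trans p (algebraMap R S) hS b b' a h (AdjoinRoot.of (poly p b) f ^ n) =
      trans p (algebraMap R S) hS b b' a h (AdjoinRoot.mk (poly p b) P)
    rw [map_pow, trans_of, trans_mk, subst_eq, ← map_pow, ← map_pow, ← AdjoinRoot.mk_C, ← map_mul]
    congr 1
    have e' := congrArg (fun Z : S[X] => Z.comp (X - C a)) e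
    simp only [halg, Polynomial.map_pow, Polynomial.map_C, mul_comp, pow_comp, C_comp, comp_shift, map_pow] at e'
    rw [map_pow, map_pow]
    exact e'
  · intro x y hxy
    obtain ⟨P, rfl⟩ := AdjoinRoot.mk_surjective x
    obtain ⟨Q, rfl⟩ := AdjoinRoot.mk_surjective y
    change trans p (algebraMap R S) hS b b' a h (AdjoinRoot.mk (poly p b) P) =
      trans p (algebraMap R S) hS b b' a h (AdjoinRoot.mk (poly p b) Q) at hxy
    rw [trans_mk, trans_mk, AdjoinRoot.mk_eq_mk] at hxy
    obtain ⟨W, hW⟩ := hxy
    obtain ⟨⟨W₀, ⟨_, m, ⟨n, rfl⟩, rfl⟩⟩, e⟩ := IsLocalization.surj M (W.comp (X + C a))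
    have h1 : algebraMap R[X] S[X] ((P - Q) * C (f ^ n)) =
        algebraMap R[X] S[X] (poly p b * W₀) := by
      have hinj : Function.Injective (fun Z : S[X] => Z.comp (X - C a)) := fun A B hAB => by
        have := congrArg (fun Z : S[X] => Z.comp (X + C a)) hAB
        simpa [Polynomial.comp_assoc] using this
      refine hinj ?_
      rw [map_mul, map_mul, ← e, halg, halg, halg, Polynomial.map_C]
      simp only [mul_comp, C_comp, comp_shift, Polynomial.map_sub, sub_comp, ← subst_eq, hW,
        subst_poly p (algebraMap R S) hS b b' a h]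
      ring
    obtain ⟨⟨_, m, ⟨k, rfl⟩, rfl⟩, hk⟩ := (IsLocalization.eq_iff_exists M S[X]).1 h1
    refine ⟨⟨_, k + n, rfl⟩, ?_⟩
    change AdjoinRoot.of (poly p b) f ^ (k + n) * _ = AdjoinRoot.of (poly p b) f ^ (k + n) * _
    rw [← map_pow, ← AdjoinRoot.mk_C, ← map_mul, ← map_mul, AdjoinRoot.mk_eq_mk]
    refine ⟨C (f ^ k) * W₀, ?_⟩
    change (C (f ^ k) : R[X]) * ((P - Q) * C (f ^ n)) = C (f ^ k) * (poly p b * W₀) at hk
    rw [pow_add, map_mul]
    linear_combination hk

theorem etale (hR : (p : R) = 0) (b : R) : Algebra.Etale R (AdjoinRoot (poly p b)) := by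
  let P : StandardEtalePair R :=
    { f := poly p b
      monic_f := monic p b
      g := 1
      cond := ⟨-1, 0, 1, by
        rw [poly, derivative_sub, derivative_X_pow, hR, map_zero, derivative_add, derivative_X,
          derivative_C, pow_one]
        ring⟩ }
  have hu : IsUnit (AdjoinRoot.mk P.f P.g) := by
    change IsUnit (AdjoinRoot.mk (poly p b) 1)
    rw [map_one]
    exact isUnit_one
  have : Algebra.Etale R (Localization.Away (AdjoinRoot.mk P.f P.g)) :=
    Algebra.Etale.of_equiv P.equivAwayAdjoinRoot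
  exact Algebra.Etale.of_equiv ((IsLocalization.atUnit (AdjoinRoot P.f)
    (Localization.Away (AdjoinRoot.mk P.f P.g)) (AdjoinRoot.mk P.f P.g) hu).restrictScalars R).symm

theorem finite (b : R) : Module.Finite R (AdjoinRoot (poly p b)) :=
  (monic p b).finite_adjoinRoot

theorem nontrivial [Nontrivial R] (b : R) : Nontrivial (AdjoinRoot (poly p b)) := by
  refine Ideal.Quotient.nontrivial_iff.2 fun e => ?_
  rw [Ideal.span_singleton_eq_top] at e
  have h1 := (monic p b).eq_one_of_isUnit e
  have h2 : (poly p b).natDegree = p := by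
    rw [poly, natDegree_sub_eq_left_of_natDegree_lt]
    · exact natDegree_X_pow p
    · rw [natDegree_X_pow]
      refine lt_of_le_of_lt ?_ hp.out.one_lt
      compute_degree
  rw [h1, natDegree_one] at h2
  exact hp.out.ne_zero h2.symm

end Groth.Agent.Lib.ASTorsor98.Ring
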