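import Groth.Agent.Lib.KVec.Pull
import Groth.Agent.Lib.Curves.LES
import Groth.Agent.Lib.ZarCoh.Basic
import Groth.Agent.Lib.ClSub.Cartier
import Groth.Agent.Lib.TensorMod.LocFree
import Groth.Prelude.Def_W4c5isocrystsimpconnFrobH

/-!
# Frobenius pull-backs trivialise iterated extensions of the structure sheaf
-/

set_option autoImplicit false

universe u

open CategoryTheory CategoryTheory.Limits CategoryTheory.Abelian AlgebraicGeometry Opposite
  TopologicalSpace

noncomputable section

namespace Groth.Agent.Lib.ASTorsor98.Unipotent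

open Groth.Agent.Lib

variable (X : Scheme.{u}) (p : ℕ) [Fact p.Prime] [FrobSch.IsCharP X p]

/-- Pull-back by the absolute Frobenius. -/
abbrev F₁ : X.Modules ⥤ X.Modules := Scheme.Modules.pullback (FrobSch.frob X p)

/-- Its iterates. -/
def Fp : ℕ → (X.Modules ⥤ X.Modules)
  | 0 => 𝟭 _
  | m + 1 => Fp m ⋙ F₁ X p

theorem Fp_obj (m : ℕ) (E : X.Modules) : (F₁ X p).obj^[m] E = (Fp X p m).obj E := by
  induction m with
  | zero => rfl
  | succ m ih => rw [Function.iterate_succ_apply', ih]; rfl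

instance additive_Fp : ∀ m, (Fp X p m).Additive
  | 0 => inferInstanceAs (𝟭 X.Modules).Additive
  | m + 1 => by
    haveI := additive_Fp m
    exact inferInstanceAs (Fp X p m ⋙ F₁ X p).Additive

/-- The canonical semilinear map `M → F^*M`. -/
def η₁ (M : X.Modules) : (Curves.LES.F X).obj M ⟶ (Curves.LES.F X).obj ((F₁ X p).obj M) :=
  (Curves.LES.F X).map (X := M)
    (Y := (Scheme.Modules.pushforward (FrobSch.frob X p)).obj ((F₁ X p).obj M))
    ((Scheme.Modules.pullbackPushforwardAdjunction (FrobSch.frob X p)).unit.app M)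

theorem η₁_natural {M N : X.Modules} (g : M ⟶ N) :
    (Curves.LES.F X).map g ≫ η₁ X p N = η₁ X p M ≫ (Curves.LES.F X).map ((F₁ X p).map g) :=
  ((Curves.LES.F X).map_comp _ _).symm.trans
    ((congrArg (Curves.LES.F X).map
      ((Scheme.Modules.pullbackPushforwardAdjunction (FrobSch.frob X p)).unit.naturality g)).trans
      ((Curves.LES.F X).map_comp _ _))

/-- The canonical semilinear map `M → (F^m)^*M`. -/
def η : ∀ (m : ℕ) (M : X.Modules), (Curves.LES.F X).obj M ⟶ (Curves.LES.F X).obj ((Fp X p m).obj M)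
  | 0, _ => 𝟙 _
  | m + 1, M => η m M ≫ η₁ X p ((Fp X p m).obj M)

theorem η_natural : ∀ (m : ℕ) {M N : X.Modules} (g : M ⟶ N),
    (Curves.LES.F X).map g ≫ η X p m N = η X p m M ≫ (Curves.LES.F X).map ((Fp X p m).map g)
  | 0, _, _, g => (Category.comp_id _).trans (Category.id_comp _).symm
  | m + 1, _, _, g => by
    change _ ≫ η X p m _ ≫ η₁ X p _ = (η X p m _ ≫ η₁ X p _) ≫ _
    rw [← Category.assoc, η_natural m g, Category.assoc, η₁_natural, Category.assoc]
    rfl

/-- `F^*O ≅ O`. -/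
def e₁ : (F₁ X p).obj (Coh.structureModule X) ≅ Coh.structureModule X :=
  PicLoc.pullbackStructureIso (FrobSch.frob X p)

/-- `(F^m)^*O ≅ O`. -/
def e : ∀ m : ℕ, (Fp X p m).obj (Coh.structureModule X) ≅ Coh.structureModule X
  | 0 => Iso.refl _
  | m + 1 => (F₁ X p).mapIso (e m) ≪≫ e₁ X p

theorem η₁_e₁ :
    η₁ X p (Coh.structureModule X) ≫ (Curves.LES.F X).map (e₁ X p).hom =
      W4c5isocrystsimpconn.frobAb X p := by
  have h := SheafOfModules.pullbackPushforwardAdjunction_homEquiv_pullbackObjUnitToUnit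
    (FrobSch.frob X p).toRingCatSheafHom
  rw [Adjunction.homEquiv_unit] at h
  refine Sheaf.hom_ext (NatTrans.ext (funext fun U => ConcreteCategory.hom_ext _ _ fun s => ?_))
  exact congr($(h).val.app U s)

/-- Iterates of the Frobenius of the structure sheaf. -/
def φpow : ℕ → ((Curves.LES.F X).obj (Coh.structureModule X) ⟶
    (Curves.LES.F X).obj (Coh.structureModule X))
  | 0 => 𝟙 _
  | m + 1 => φpow m ≫ W4c5isocrystsimpconn.frobAb X p

theorem η_e : ∀ m : ℕ,
    η X p m (Coh.structureModule X) ≫ (Curves.LES.F X).map (e X p m).hom = φpow X p m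
  | 0 => (congrArg (fun t => 𝟙 _ ≫ t) ((Curves.LES.F X).map_id _)).trans (Category.id_comp _)
  | m + 1 => by
    change (η X p m _ ≫ η₁ X p _) ≫ (Curves.LES.F X).map ((F₁ X p).map (e X p m).hom ≫ (e₁ X p).hom) =
      φpow X p m ≫ _
    rw [Functor.map_comp, Category.assoc, ← Category.assoc (η₁ X p _), ← η₁_natural,
      Category.assoc, ← Category.assoc, η_e m, η₁_e₁]

theorem map_φpow : ∀ (m : ℕ) (x : Coh.HH X (Coh.structureModule X) 1),
    Sheaf.H.map (φpow X p m) 1 x = (W4c5isocrystsimpconn.frobH X p 1)^[m] x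
  | 0, x => Sheaf.H.map_id_apply x
  | m + 1, x => by
    rw [Function.iterate_succ_apply', ← map_φpow m x]
    exact Sheaf.H.map_comp_apply _ _ _

theorem φpow_one : ∀ m : ℕ, (φpow X p m).hom.app (op ⊤) (1 : Γ(X, ⊤)) = (1 : Γ(X, ⊤))
  | 0 => rfl
  | m + 1 => by
    change (W4c5isocrystsimpconn.frobAb X p).hom.app (op ⊤) ((φpow X p m).hom.app (op ⊤) (1 : Γ(X, ⊤))) = _
    rw [φpow_one m]
    exact one_pow (M := Γ(X, ⊤)) p

theorem shortExact_Fp : ∀ (m : ℕ) {A E : X.Modules} {i : A ⟶ E} {q : E ⟶ Coh.structureModule X}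
    {w : i ≫ q = 0}, (ShortComplex.mk i q w).ShortExact →
      ((ShortComplex.mk i q w).map (Fp X p m)).ShortExact
  | 0, _, _, _, _, _, h => h
  | m + 1, _, _, _, _, _, h =>
    KVec.Pull.shortExact_pullback (FrobSch.frob X p) (shortExact_Fp m h)
      (TensorMod.LocFree.of_iso (e X p m).symm
        (TensorMod.LocFree.of_rank (TensorMod.LocFree.of_isInvertible (PicLoc.isInvertible_structureModule X))))

/-- The pulled back sequence, with last term `O`. -/
abbrev seq (m : ℕ) {A E : X.Modules} (i : A ⟶ E) (q : E ⟶ Coh.structureModule X) (w : i ≫ q = 0) :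
    ShortComplex X.Modules :=
  ShortComplex.mk ((Fp X p m).map i) ((Fp X p m).map q ≫ (e X p m).hom)
    (by rw [← Functor.map_comp_assoc, w, Functor.map_zero, zero_comp])

theorem shortExact_seq (m : ℕ) {A E : X.Modules} {i : A ⟶ E} {q : E ⟶ Coh.structureModule X}
    {w : i ≫ q = 0} (h : (ShortComplex.mk i q w).ShortExact) : (seq X p m i q w).ShortExact :=
  ShortComplex.shortExact_of_iso
    (ShortComplex.isoMk (S₁ := (ShortComplex.mk i q w).map (Fp X p m)) (S₂ := seq X p m i q w)
      (Iso.refl _) (Iso.refl _) (e X p m)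
      ((Category.id_comp _).trans (Category.comp_id _).symm) (Category.id_comp _))
    (shortExact_Fp X p m h)

/-- A free module plus one free summand. -/
def freeSuccIso (n : ℕ) :
    (FlatMod.freeMod X n ⊞ Coh.structureModule X) ≅ FlatMod.freeMod X (n + 1) :=
  biprod.isoCoprod _ _ ≪≫ coprod.mapIso (Iso.refl _) (TensorMod.LocFree.freeModOneIso X).symm ≪≫
    TensorMod.LocFree.freeModAddIso X n 1

/-- Pull-backs of free modules are free. -/
def FpFree : ∀ (m n : ℕ), (Fp X p m).obj (FlatMod.freeMod X n) ≅ FlatMod.freeMod X n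
  | 0, _ => Iso.refl _
  | m + 1, n => (F₁ X p).mapIso (FpFree m n) ≪≫
      TensorMod.LocFree.pullbackFreeModIso (FrobSch.frob X p) n

/-- The key step: after `b` pull-backs an extension of `O` by a free module is free. -/
theorem nonempty_iso_free_succ {b : ℕ}
    (hb : ∀ x : Coh.HH X (Coh.structureModule X) 1, (W4c5isocrystsimpconn.frobH X p 1)^[b] x = 0)
    {A E : X.Modules} (i : A ⟶ E) (q : E ⟶ Coh.structureModule X) (w : i ≫ q = 0)
    (hS : (ShortComplex.mk i q w).ShortExact) {n : ℕ} (eA : A ≅ FlatMod.freeMod X n) :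
    Nonempty ((Fp X p b).obj E ≅ FlatMod.freeMod X (n + 1)) := by
  let T := seq X p b i q w
  have hT : T.ShortExact := shortExact_seq X p b hS
  let S₀ := Curves.LES.abSES (ShortComplex.mk i q w)
  let S₁ := Curves.LES.abSES T
  have hS₀ : S₀.ShortExact := Curves.LES.shortExact_abSES hS
  have hS₁ : S₁.ShortExact := Curves.LES.shortExact_abSES hT
  let Φ : S₀ ⟶ S₁ := ShortComplex.homMk (η X p b A) (η X p b E) (φpow X p b)
    (η_natural X p b i).symm (by
      change η X p b E ≫ (Curves.LES.F X).map ((Fp X p b).map q ≫ (e X p b).hom) =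
        (Curves.LES.F X).map q ≫ φpow X p b
      rw [← η_e, Functor.map_comp, ← Category.assoc, ← η_natural, Category.assoc])
  let c₀ : Curves.LES.cst X ⟶ (Curves.LES.F X).obj (Coh.structureModule X) :=
    (ZarCoh.Basic.constEquiv _).symm (1 : Γ(X, ⊤))
  have hc₀ : c₀ ≫ φpow X p b = c₀ := by
    apply (ZarCoh.Basic.constEquiv _).injective
    refine (ZarCoh.Basic.constEquiv_comp c₀ (φpow X p b)).trans ?_
    rw [Equiv.apply_symm_apply]
    exact φpow_one X p b
  let c : Coh.HH X A 1 := (Ext.mk₀ c₀).comp hS₀.extClass (zero_add 1)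
  -- the pulled back class vanishes componentwise
  have hzero : Sheaf.H.map (η X p b A) 1 c = 0 := by
    let y : Coh.HH X ((Fp X p b).obj A) 1 := Sheaf.H.map (η X p b A) 1 c
    change y = 0
    let ι' : Fin n → (Coh.structureModule X ⟶ A) := fun j =>
      Sigma.ι (fun _ : Fin n => Coh.structureModule X) j ≫ eA.inv
    let π' : Fin n → (A ⟶ Coh.structureModule X) := fun j =>
      eA.hom ≫ Sigma.desc fun j' => if j' = j then 𝟙 _ else 0
    have hsum : ∑ j, π' j ≫ ι' j = 𝟙 A := by
      have : ∑ j, (Sigma.desc fun j' : Fin n => if j' = j then 𝟙 (Coh.structureModule X) else 0) ≫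
          Sigma.ι (fun _ : Fin n => Coh.structureModule X) j = 𝟙 (FlatMod.freeMod X n) :=
        Sigma.hom_ext _ _ fun j' => by
          rw [Preadditive.comp_sum, Category.comp_id]
          simp only [Sigma.ι_desc_assoc, ite_comp, Category.id_comp, zero_comp]
          rw [Finset.sum_ite_eq]
          simp
      simp only [π', ι', Category.assoc]
      simp only [← Category.assoc (Sigma.desc _), ← Preadditive.comp_sum, ← Preadditive.sum_comp]
      rw [this, Category.id_comp, Iso.hom_inv_id]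
    have hπ : ∀ j, Sheaf.H.map ((Curves.LES.F X).map ((Fp X p b).map (π' j) ≫ (e X p b).hom)) 1 y = 0 :=
      fun j => by
        refine (Sheaf.H.map_comp_apply (η X p b A) _ c).symm.trans ?_
        rw [Functor.map_comp, ← Category.assoc, ← η_natural, Category.assoc, η_e,
          Sheaf.H.map_comp_apply, map_φpow]
        exact hb _
    have hy : y = Sheaf.H.map ((Curves.LES.F X).map ((Fp X p b).map (∑ j, π' j ≫ ι' j))) 1 y := by
      rw [hsum, CategoryTheory.Functor.map_id, CategoryTheory.Functor.map_id, Sheaf.H.map_id_apply]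
    rw [hy, Functor.map_sum, Functor.map_sum]
    let Hy : ((Curves.LES.F X).obj ((Fp X p b).obj A) ⟶ (Curves.LES.F X).obj ((Fp X p b).obj A)) →+
        Coh.HH X ((Fp X p b).obj A) 1 :=
      { toFun := fun g => Sheaf.H.map g 1 y
        map_zero' := by simp [Sheaf.H.map_apply]
        map_add' := fun g g' => Sheaf.H.map_add_apply g g' y }
    refine (map_sum Hy _ _).trans (Finset.sum_eq_zero fun j _ => ?_)
    change Sheaf.H.map ((Curves.LES.F X).map ((Fp X p b).map (π' j ≫ ι' j))) 1 y = 0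
    have hfac : (Fp X p b).map (π' j ≫ ι' j) =
        ((Fp X p b).map (π' j) ≫ (e X p b).hom) ≫ ((e X p b).inv ≫ (Fp X p b).map (ι' j)) := by
      simp
    rw [hfac, Functor.map_comp, Sheaf.H.map_comp_apply, hπ, map_zero]
  have hδ : (Ext.mk₀ c₀).comp hS₁.extClass (zero_add 1) = 0 := by
    have h1 : (Ext.mk₀ (c₀ ≫ φpow X p b)).comp hS₁.extClass (zero_add 1) =
        Sheaf.H.map (η X p b A) 1 c := by
      rw [← Ext.mk₀_comp_mk₀, Ext.comp_assoc_of_second_deg_zero]
      refine (congrArg (fun t => (Ext.mk₀ c₀).comp t (zero_add 1))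
        (ShortComplex.ShortExact.extClass_naturality hS₀ hS₁ Φ).symm).trans ?_
      exact (Ext.comp_assoc_of_third_deg_zero _ _ _ _).symm
    rw [hc₀] at h1
    exact h1.trans hzero
  obtain ⟨z, hz⟩ := Ext.covariant_sequence_exact₃ _ hS₁ _ (zero_add 1) hδ
  obtain ⟨g, rfl⟩ := (Ext.mk₀_bijective _ _).2 z
  rw [Ext.mk₀_comp_mk₀] at hz
  have hg : g ≫ S₁.g = c₀ := (Ext.mk₀_bijective _ _).1 hz
  let t : Γ((Fp X p b).obj E, ⊤) := ZarCoh.Basic.constEquiv _ g
  have ht : T.g.app ⊤ t = (1 : Γ(X, ⊤)) := by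
    have h := (ZarCoh.Basic.constEquiv_comp g S₁.g).symm
    rw [hg] at h
    exact h.trans (Equiv.apply_symm_apply _ _)
  have hsec : ClSub.Cartier.ofSection _ t ≫ T.g = 𝟙 _ := by
    refine Scheme.Modules.hom_ext _ _ fun V => ?_
    ext r
    have hr : T.g.app V ((ClSub.Cartier.ofSection _ t).app V r) = r := by
      rw [ClSub.Cartier.ofSection_app, Scheme.Modules.Hom.app_smul]
      have hn : T.g.app V (((Fp X p b).obj E).presheaf.map (homOfLE (le_top (a := V))).op t) =
          (Coh.structureModule X).presheaf.map (homOfLE (le_top (a := V))).op (T.g.app ⊤ t) :=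
        NatTrans.naturality_apply T.g.mapPresheaf (homOfLE (le_top (a := V))).op t
      rw [hn, ht]
      change @HMul.hMul Γ(X, V) Γ(X, V) Γ(X, V) _ r
        (X.presheaf.map (homOfLE (le_top (a := V))).op (1 : Γ(X, ⊤))) = r
      exact (congrArg (fun z : Γ(X, V) => @HMul.hMul Γ(X, V) Γ(X, V) Γ(X, V) _ r z) (map_one _)).trans
        (mul_one (M := Γ(X, V)) r)
    exact hr
  haveI := hT.mono_f
  let sp := ShortComplex.Splitting.ofExactOfSection T hT.exact _ hsec hT.mono_f
  exact ⟨sp.isoBinaryBiproduct ≪≫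
    biprod.mapIso ((Fp X p b).mapIso eA ≪≫ FpFree X p b n) (Iso.refl _) ≪≫ freeSuccIso X n⟩

/-- Iterated extensions of `O` become free after pull-back. -/
theorem nonempty_iso_free {b : ℕ}
    (hb : ∀ x : Coh.HH X (Coh.structureModule X) 1, (W4c5isocrystsimpconn.frobH X p 1)^[b] x = 0) :
    ∀ (r : ℕ) (E : X.Modules), W4c5isocrystsimpconn.IsIterExt X r E →
      Nonempty ((F₁ X p).obj^[b * (r - 1)] E ≅ FlatMod.freeMod X r) := by
  intro r
  induction r with
  | zero =>
    intro E hE
    have hF : IsZero (FlatMod.freeMod X 0) :=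
      (IsZero.iff_id_eq_zero _).2 (Sigma.hom_ext _ _ fun i => i.elim0)
    exact ⟨IsZero.iso hE hF⟩
  | succ n ih =>
    rintro E ⟨E', i, q, w, hE', hS⟩
    obtain ⟨eA⟩ := ih E' hE'
    cases n with
    | zero =>
      haveI : IsIso q := hS.isIso_g_iff.2 hE'
      exact ⟨@asIso _ _ _ _ q this ≪≫ (TensorMod.LocFree.freeModOneIso X).symm⟩
    | succ n =>
      change Nonempty ((F₁ X p).obj^[b * (n + 1)] E ≅ _)
      change (F₁ X p).obj^[b * n] E' ≅ _ at eA
      rw [Fp_obj] at eA
      rw [Nat.mul_succ, Nat.add_comm, Function.iterate_add_apply, Fp_obj, Fp_obj]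
      exact nonempty_iso_free_succ X p hb _ _ _ (shortExact_seq X p (b * n) hS) eA

end Groth.Agent.Lib.ASTorsor98.Unipotent
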